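import Groth.Agent.L17.BC.PullClass
import Groth.Agent.L17.BC.Delta
import Groth.Agent.L17.CohSections
import Groth.Agent.L19.ProjBdl.Loci

/-!
Restriction, local bijectivity and affine bijectivity of the comparison with higher direct images.
-/

set_option autoImplicit false
set_option linter.style.haveILetI false
set_option linter.unusedSectionVars false
set_option backward.isDefEq.respectTransparency false

universe u

open CategoryTheory CategoryTheory.Limits AlgebraicGeometry TopologicalSpace Opposite Abelian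

noncomputable section

namespace Groth.L16.SectCmp

open Groth.L18.Frame (rs rs_rs rs_self pull pull_rs)
open Groth.L10.SiteCoh
open Groth.L17 (toAbShF)
open Groth.L17.CohSections (fsU)

variable {X Y : Scheme.{u}}

theorem app_rs' {M N : X.Modules} (φ : M ⟶ N) {W W' : X.Opens} (h : W' ≤ W) (s : Γ(M, W)) :
    φ.app W' (rs M h s) = rs N h (φ.app W s) :=
  Groth.L17.BC.PullSec.app_rs φ h s

section Restriction

theorem pullbackId_pull (F : X.Modules) (U : X.Opens) (s : Γ(F, U)) :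
    ((Scheme.Modules.pullbackId X).hom.app F).app U (pull (𝟙 X) F U s) = s := by
  have h := unit_conjugateEquiv Adjunction.id (Scheme.Modules.pullbackPushforwardAdjunction (𝟙 X))
    (Scheme.Modules.pullbackId X).hom F
  rw [Scheme.Modules.conjugateEquiv_pullbackId_hom] at h
  exact (congr($(congrArg (fun k => Scheme.Modules.Hom.app k U) h) s)).symm

theorem mapH_sectH0 {M N : X.Modules} (φ : M ⟶ N) (U : X.Opens) (s : Γ(M, U)) :
    CohPull.mapH ((Scheme.Modules.restrictFunctor U.ι).map φ) 0 (CohPull.sectH0 M U s) =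
      CohPull.sectH0 N U (φ.app U s) := by
  apply (Sheaf.H.equiv₀ _ (Limits.isTerminalTop : Limits.IsTerminal (⊤ : U.toScheme.Opens))).injective
  rw [Groth.L17.BC.PullClass.equiv₀_symm_apply]
  refine (Sheaf.H.equiv₀_naturality (Limits.isTerminalTop : Limits.IsTerminal (⊤ : U.toScheme.Opens)) _ _).symm.trans ?_
  rw [Groth.L17.BC.PullClass.equiv₀_symm_apply]
  exact app_rs' φ U.ι_image_top.le s

theorem resLE_sectH0 (F : X.Modules) {U U' : X.Opens} (h : U' ≤ U) (s : Γ(F, U)) :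
    CohPull.resLE F h 0 (CohPull.sectH0 F U s) = CohPull.sectH0 F U' (rs F h s) := by
  show CohPull.mapH _ 0 (CohPull.pullOn (𝟙 X) U U' _ F 0 (CohPull.sectH0 F U s)) = _
  rw [Groth.L17.BC.PullClass.pullOn_sectH0, mapH_sectH0, app_rs']
  exact congrArg (fun z => CohPull.sectH0 F U' (rs F h z)) (pullbackId_pull F U s)

theorem resLE_extδ {U U' : X.Opens} (h : U' ≤ U) {S : ShortComplex X.Modules} (hS : S.ShortExact) (p : ℕ)
    (x : Coh.HHon X S.X₃ U p) :
    CohPull.resLE S.X₁ h (p + 1) (CohCmp.extδ (Groth.L17.BC.PullClass.shortExact_toAbOn U hS) p x) =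
      CohCmp.extδ (Groth.L17.BC.PullClass.shortExact_toAbOn U' hS) p (CohPull.resLE S.X₃ h p x) := by
  let e : S.map (Scheme.Modules.pullback (𝟙 X)) ≅ S := S.mapNatIso (Scheme.Modules.pullbackId X)
  have hA' := Groth.L17.BC.PullClass.shortExact_toAbOn U' (ShortComplex.shortExact_of_iso e.symm hS)
  show CohPull.mapH _ (p + 1) (CohPull.pullOn (𝟙 X) U U' _ S.X₁ (p + 1) _) = _
  rw [Groth.L17.BC.PullClass.pullOn_extδ (𝟙 X) U U' _ (Groth.L17.BC.PullClass.shortExact_toAbOn U hS) hA' p x]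
  exact (Groth.L17.BC.PullClass.map_extClass hA' (Groth.L17.BC.PullClass.shortExact_toAbOn U' hS)
    ((CohCmp.toAbOn X U').mapShortComplex.map e.hom) p _).symm

end Restriction

section Sequence

variable (F : X.Modules)

/-- An embedding into an injective module. -/
def seq : ShortComplex X.Modules :=
  ShortComplex.mk (Injective.ι F) (cokernel.π (Injective.ι F)) (cokernel.condition _)

theorem shortExact_seq : (seq F).ShortExact :=
  haveI : Mono (seq F).f := inferInstanceAs (Mono (Injective.ι F))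
  haveI : Epi (seq F).g := inferInstanceAs (Epi (cokernel.π (Injective.ι F)))
  { exact := ShortComplex.exact_cokernel (Injective.ι F) }

instance injective_seq : Injective (seq F).X₂ := inferInstanceAs (Injective (Injective.under F))

theorem subsingleton_HHon_seq (U : X.Opens) (p : ℕ) : Subsingleton (Coh.HHon X (seq F).X₂ U (p + 1)) := by
  obtain ⟨e⟩ := Groth.L17.nonempty_hhon_equiv (seq F).X₂ U (p + 1)
  haveI := Groth.L17.subsingleton_ext_fs_of_injective (seq F).X₂ U p
  exact @Equiv.subsingleton _ _ e.toEquiv (Groth.L17.subsingleton_ext_fs_of_injective (seq F).X₂ U p)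

theorem exists_extδ (U : X.Opens) (p : ℕ) (x : Coh.HHon X F U (p + 1)) :
    ∃ y, CohCmp.extδ (Groth.L17.BC.PullClass.shortExact_toAbOn U (shortExact_seq F)) p y = x := by
  haveI := subsingleton_HHon_seq F U p
  exact Ext.covariant_sequence_exact₁ _ (Groth.L17.BC.PullClass.shortExact_toAbOn U (shortExact_seq F)) x
    (@Subsingleton.elim _ (subsingleton_HHon_seq F U p) _ _) rfl

theorem extδ_mapH_g (U : X.Opens) (p : ℕ) (w : Coh.HHon X (seq F).X₂ U p) :
    CohCmp.extδ (Groth.L17.BC.PullClass.shortExact_toAbOn U (shortExact_seq F)) p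
      (CohPull.mapH ((Scheme.Modules.restrictFunctor U.ι).map (seq F).g) p w) = 0 := by
  let hS := Groth.L17.BC.PullClass.shortExact_toAbOn U (shortExact_seq F)
  show (w.comp (Ext.mk₀ ((seq F).map (CohCmp.toAbOn X U)).g) (add_zero p)).comp hS.extClass rfl = 0
  rw [Ext.comp_assoc_of_second_deg_zero]
  exact (congrArg (fun t => w.comp t rfl) hS.comp_extClass).trans (Ext.comp_zero ..)

end Sequence

section Wrap

/-- The cohomology over an open, bundled. -/
def HW (U : X.Opens) (F : X.Modules) (p : ℕ) : AddCommGrpCat.{u} := AddCommGrpCat.of (Coh.HHon X F U p)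

/-- Restriction. -/
def rW (F : X.Modules) {U U' : X.Opens} (h : U' ≤ U) (p : ℕ) : HW U F p →+ HW U' F p := CohPull.resLE F h p

/-- Sections as classes. -/
def sW (F : X.Modules) (U : X.Opens) : Γ(F, U) →+ HW U F 0 := (CohPull.sectH0 F U).toAddMonoidHom

/-- Functoriality at the second map of the embedding. -/
def gW (F : X.Modules) (U : X.Opens) (p : ℕ) : HW U (seq F).X₂ p →+ HW U (seq F).X₃ p :=
  CohPull.mapH ((Scheme.Modules.restrictFunctor U.ι).map (seq F).g) p

/-- The connecting map of the embedding into an injective module. -/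
def dW (F : X.Modules) (U : X.Opens) (p : ℕ) : HW U (seq F).X₃ p →+ HW U F (p + 1) :=
  CohCmp.extδ (Groth.L17.BC.PullClass.shortExact_toAbOn U (shortExact_seq F)) p

theorem sW_surjective (F : X.Modules) (U : X.Opens) : Function.Surjective (sW F U) :=
  (CohPull.sectH0 F U).surjective

theorem exists_dW (F : X.Modules) (U : X.Opens) (p : ℕ) (x : HW U F (p + 1)) : ∃ y, dW F U p y = x :=
  exists_extδ F U p x

theorem dW_gW (F : X.Modules) (U : X.Opens) (p : ℕ) (w : HW U (seq F).X₂ p) : dW F U p (gW F U p w) = 0 :=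
  extδ_mapH_g F U p w

theorem rW_sW (F : X.Modules) {U U' : X.Opens} (h : U' ≤ U) (s : Γ(F, U)) :
    rW F h 0 (sW F U s) = sW F U' (rs F h s) :=
  resLE_sectH0 F h s

theorem rW_dW (F : X.Modules) {U U' : X.Opens} (h : U' ≤ U) (p : ℕ) (x : HW U (seq F).X₃ p) :
    rW F h (p + 1) (dW F U p x) = dW F U' p (rW (seq F).X₃ h p x) :=
  resLE_extδ h (shortExact_seq F) p x

/-- Restriction of classes is transitive. -/
theorem rW_rW (p : ℕ) : ∀ (F : X.Modules) {U U' U'' : X.Opens} (h : U' ≤ U) (h' : U'' ≤ U')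
    (x : HW U F p), rW F h' p (rW F h p x) = rW F (h'.trans h) p x := by
  induction p with
  | zero =>
    intro F U U' U'' h h' x
    obtain ⟨s, rfl⟩ := sW_surjective F U x
    rw [rW_sW, rW_sW, rW_sW, rs_rs]
  | succ p ih =>
    intro F U U' U'' h h' x
    obtain ⟨y, rfl⟩ := exists_dW F U p x
    rw [rW_dW F h p y, rW_dW F h' p, ih _ h h' y, rW_dW F (h'.trans h) p y]

end Wrap

section Sections

theorem exists_of_app_eq_zero {S : ShortComplex Y.Modules} (hS : S.ShortExact) (V : Y.Opens) (t : Γ(S.X₂, V))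
    (ht : S.g.app V t = 0) : ∃ s, S.f.app V s = t := by
  let e := fun M : Y.Modules => secEquiv (Opens.grothendieckTopology Y) V (Coh.toAb M)
  have h0 : (Ext.mk₀ ((e S.X₂).symm t)).comp (Ext.mk₀ (S.map (toAbShF Y)).g) (add_zero 0) = 0 := by
    rw [Ext.mk₀_comp_mk₀, Ext.mk₀_eq_zero_iff]
    refine (e S.X₃).injective ?_
    rw [map_zero]
    refine (secEquiv_comp _ _).trans ?_
    rw [AddEquiv.apply_symm_apply]
    exact ht
  obtain ⟨y, hy⟩ := Ext.covariant_sequence_exact₂ _ (hS.map_of_exact (toAbShF Y)) _ h0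
  obtain ⟨φ, rfl⟩ := (Ext.mk₀_bijective _ _).2 y
  rw [Ext.mk₀_comp_mk₀] at hy
  refine ⟨e S.X₁ φ, ?_⟩
  have := congrArg (e S.X₂) ((Ext.mk₀_bijective _ _).1 hy)
  rw [AddEquiv.apply_symm_apply] at this
  exact (secEquiv_comp φ _).symm.trans this

/-- Acyclicity over an open. -/
def Acy (V : Y.Opens) (N : Y.Modules) : Prop := ∀ m : ℕ, Subsingleton (Ext (fsU V) (Coh.toAb N) (m + 1))

theorem app_surjective_of_acy {S : ShortComplex Y.Modules} (hS : S.ShortExact) {V : Y.Opens} (h : Acy V S.X₁)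
    (t : Γ(S.X₃, V)) : ∃ s, S.g.app V s = t := by
  let e := fun M : Y.Modules => secEquiv (Opens.grothendieckTopology Y) V (Coh.toAb M)
  obtain ⟨y, hy⟩ := Ext.covariant_sequence_exact₃ _ (hS.map_of_exact (toAbShF Y)) (Ext.mk₀ ((e S.X₃).symm t))
    (zero_add 1) (@Subsingleton.elim _ (h 0) _ _)
  obtain ⟨φ, rfl⟩ := (Ext.mk₀_bijective _ _).2 y
  rw [Ext.mk₀_comp_mk₀] at hy
  refine ⟨e S.X₂ φ, ?_⟩
  have := congrArg (e S.X₃) ((Ext.mk₀_bijective _ _).1 hy)
  rw [AddEquiv.apply_symm_apply] at this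
  exact (secEquiv_comp φ _).symm.trans this

theorem Acy.right {S : ShortComplex Y.Modules} (hS : S.ShortExact) {V : Y.Opens} (h₁ : Acy V S.X₁)
    (h₂ : Acy V S.X₂) : Acy V S.X₃ := fun m => subsingleton_of_forall_eq 0 fun z => by
  obtain ⟨y, rfl⟩ := Ext.covariant_sequence_exact₃ _ (hS.map_of_exact (toAbShF Y)) z rfl
    (@Subsingleton.elim _ (h₁ (m + 1)) _ _)
  rw [@Subsingleton.elim _ (h₂ m) y 0, Ext.zero_comp]

theorem Acy.middle {S : ShortComplex Y.Modules} (hS : S.ShortExact) {V : Y.Opens} (h₁ : Acy V S.X₁)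
    (h₃ : Acy V S.X₃) : Acy V S.X₂ := fun m => subsingleton_of_forall_eq 0 fun z => by
  obtain ⟨y, rfl⟩ := Ext.covariant_sequence_exact₂ _ (hS.map_of_exact (toAbShF Y)) z
    (@Subsingleton.elim _ (h₃ m) _ _)
  rw [@Subsingleton.elim _ (h₁ m) y 0, Ext.zero_comp]

theorem Acy.of_iso {M N : Y.Modules} (e : M ≅ N) {V : Y.Opens} (h : Acy V M) : Acy V N := fun m =>
  subsingleton_of_forall_eq 0 fun z => by
    have h1 : ((toAbShF Y).map e.inv) ≫ (toAbShF Y).map e.hom = 𝟙 _ := by
      rw [← Functor.map_comp, e.inv_hom_id, CategoryTheory.Functor.map_id]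
    have h2 : z = (z.comp (Ext.mk₀ ((toAbShF Y).map e.inv)) (add_zero (m + 1))).comp
        (Ext.mk₀ ((toAbShF Y).map e.hom)) (add_zero (m + 1)) := by
      rw [Ext.comp_assoc_of_third_deg_zero, Ext.mk₀_comp_mk₀, h1, Ext.comp_mk₀_id]
    rw [h2, @Subsingleton.elim _ (h m) (z.comp (Ext.mk₀ ((toAbShF Y).map e.inv)) (add_zero (m + 1))) 0, Ext.zero_comp]

end Sections

variable (f : X ⟶ Y) [HasInjectiveResolutions X.Modules]
  {Δ : RDer.DerivedLES (Scheme.Modules.pushforward f)} (E : CohCmp.SectCmp f Δ)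

/-- The connecting map of the higher direct images at the embedding into an injective module. -/
def δseq (F : X.Modules) (p : ℕ) : (Coh.Rpush f p).obj (seq F).X₃ ⟶ (Coh.Rpush f (p + 1)).obj F :=
  Δ.δ (seq F) (shortExact_seq F) p (p + 1) rfl

/-- The comparison. -/
def εW (V : Y.Opens) (F : X.Modules) (p : ℕ) : HW (f ⁻¹ᵁ V) F p →+ Γ((Coh.Rpush f p).obj F, V) := E.ε V F p

theorem εW_sW (V : Y.Opens) (F : X.Modules) (s : Γ(F, f ⁻¹ᵁ V)) :
    εW f E V F 0 (sW F (f ⁻¹ᵁ V) s) = ((Scheme.Modules.pushforward f).toRightDerivedZero.app F).app V s :=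
  E.zero V F s

theorem εW_gW (V : Y.Opens) (F : X.Modules) (p : ℕ) (w : HW (f ⁻¹ᵁ V) (seq F).X₂ p) :
    εW f E V (seq F).X₃ p (gW F (f ⁻¹ᵁ V) p w) =
      ((Coh.Rpush f p).map (seq F).g).app V (εW f E V (seq F).X₂ p w) :=
  E.natural V (seq F).g p w

theorem εW_dW (V : Y.Opens) (F : X.Modules) (p : ℕ) (y : HW (f ⁻¹ᵁ V) (seq F).X₃ p) :
    εW f E V F (p + 1) (dW F (f ⁻¹ᵁ V) p y) = (δseq f (Δ := Δ) F p).app V (εW f E V (seq F).X₃ p y) :=
  E.delta V (seq F) (shortExact_seq F) (Groth.L17.BC.PullClass.shortExact_toAbOn _ (shortExact_seq F)) p y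

/-- The comparison commutes with restriction. -/
theorem res_εW (p : ℕ) : ∀ (F : X.Modules) {V W : Y.Opens} (h : W ≤ V) (x : HW (f ⁻¹ᵁ V) F p),
    rs ((Coh.Rpush f p).obj F) h (εW f E V F p x) = εW f E W F p (rW F (f.preimage_mono h) p x) := by
  induction p with
  | zero =>
    intro F V W h x
    obtain ⟨s, rfl⟩ := sW_surjective F (f ⁻¹ᵁ V) x
    rw [rW_sW, εW_sW, εW_sW, ← app_rs']
    rfl
  | succ p ih =>
    intro F V W h x
    obtain ⟨y, rfl⟩ := exists_dW F (f ⁻¹ᵁ V) p x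
    rw [εW_dW f E V F p y, rW_dW F (f.preimage_mono h) p y, εW_dW f E W F p, ← app_rs', ih _ h y]

theorem isZero_Rpush_seq (F : X.Modules) (p : ℕ) : IsZero ((Coh.Rpush f (p + 1)).obj (seq F).X₂) :=
  Functor.isZero_rightDerived_obj_injective_succ _ p _

theorem epi_δ (F : X.Modules) (p : ℕ) : Epi (Δ.δ (seq F) (shortExact_seq F) p (p + 1) rfl) :=
  (Δ.exact₁ (seq F) (shortExact_seq F) p (p + 1) rfl).epi_f ((isZero_Rpush_seq f F p).eq_of_tgt _ _)

theorem mono_δ (F : X.Modules) (p : ℕ) : Mono (Δ.δ (seq F) (shortExact_seq F) (p + 1) (p + 1 + 1) rfl) :=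
  (Δ.exact₃ (seq F) (shortExact_seq F) (p + 1) (p + 1 + 1) rfl).mono_g ((isZero_Rpush_seq f F p).eq_of_src _ _)

theorem exists_local_εW (p : ℕ) : ∀ (F : X.Modules) {V : Y.Opens} (t : Γ((Coh.Rpush f p).obj F, V)) {y : Y},
    y ∈ V → ∃ (W : Y.Opens) (h : W ≤ V) (x : HW (f ⁻¹ᵁ W) F p), y ∈ W ∧
      εW f E W F p x = rs ((Coh.Rpush f p).obj F) h t := by
  induction p with
  | zero =>
    intro F V t y hy
    obtain ⟨s, rfl⟩ := Groth.L17.BC.Delta.exists_toRightDerivedZero f F V t
    exact ⟨V, le_rfl, _, hy, (εW_sW f E V F s).trans (rs_self _ le_rfl _).symm⟩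
  | succ p ih =>
    intro F V t y hy
    haveI : Epi (δseq f (Δ := Δ) F p) := epi_δ f (Δ := Δ) F p
    obtain ⟨W₁, h₁, hy₁, t', ht'⟩ :=
      Groth.L19.ProjBdl.exists_local_preimage (δseq f (Δ := Δ) F p) t hy
    obtain ⟨W, h, x, hyW, hx⟩ := ih _ t' hy₁
    refine ⟨W, h.trans h₁, dW F _ p x, hyW, (εW_dW f E W F p x).trans ?_⟩
    rw [hx, app_rs', ht']
    exact rs_rs _ h₁ h t

/-- The comparison is locally surjective. -/
theorem exists_local_ε (p : ℕ) (F : X.Modules) {V : Y.Opens} (t : Γ((Coh.Rpush f p).obj F, V)) {y : Y}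
    (hy : y ∈ V) : ∃ (W : Y.Opens) (h : W ≤ V) (x : Coh.HHon X F (f ⁻¹ᵁ W) p), y ∈ W ∧
      E.ε W F p x = rs ((Coh.Rpush f p).obj F) h t :=
  exists_local_εW f E p F t hy

/-- A section killed by the connecting map comes locally from the injective. -/
theorem exists_local_of_δ (F : X.Modules) (p : ℕ) {V : Y.Opens}
    (t : Γ((Coh.Rpush f p).obj (seq F).X₃, V))
    (ht : (δseq f (Δ := Δ) F p).app V t = 0) {y : Y} (hy : y ∈ V) :
    ∃ (W : Y.Opens) (h : W ≤ V) (u : Γ((Coh.Rpush f p).obj (seq F).X₂, W)), y ∈ W ∧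
      ((Coh.Rpush f p).map (seq F).g).app W u = rs _ h t := by
  let g := (Coh.Rpush f p).map (seq F).g
  let δ := Δ.δ (seq F) (shortExact_seq F) p (p + 1) rfl
  haveI := epi_δ f (Δ := Δ) F p
  obtain ⟨t', ht'⟩ := exists_of_app_eq_zero (S := ShortComplex.mk (kernel.ι δ) δ (kernel.condition _))
    { exact := ShortComplex.exact_kernel _ } V t ht
  let l := kernel.lift δ g (Δ.comp_δ (seq F) (shortExact_seq F) p (p + 1) rfl)
  haveI : Epi l := ((Δ.exact₃ (seq F) (shortExact_seq F) p (p + 1) rfl).epi_kernelLift :)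
  obtain ⟨W, h, hyW, u, hu⟩ := Groth.L19.ProjBdl.exists_local_preimage l t' hy
  refine ⟨W, h, u, hyW, ?_⟩
  rw [← ht', ← app_rs']
  refine Eq.trans ?_ (congrArg _ hu)
  exact congr($(congrArg (fun k => Scheme.Modules.Hom.app k W) (kernel.lift_ι δ g _).symm) u)

theorem exists_local_zeroW (p : ℕ) : ∀ (F : X.Modules) {V : Y.Opens} (x : HW (f ⁻¹ᵁ V) F p),
    εW f E V F p x = 0 → ∀ {y : Y}, y ∈ V →
      ∃ (W : Y.Opens) (h : W ≤ V), y ∈ W ∧ rW F (f.preimage_mono h) p x = 0 := by
  induction p with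
  | zero =>
    intro F V x hx y hy
    obtain ⟨s, rfl⟩ := sW_surjective F (f ⁻¹ᵁ V) x
    rw [εW_sW] at hx
    have hs : s = 0 := Groth.L17.BC.Delta.injective_toRightDerivedZero f F V (hx.trans (map_zero _).symm)
    exact ⟨V, le_rfl, hy, by rw [hs, map_zero, map_zero]⟩
  | succ p ih =>
    intro F V x hx y hy
    obtain ⟨x', rfl⟩ := exists_dW F (f ⁻¹ᵁ V) p x
    obtain ⟨W₁, h₁, u, hy₁, hu⟩ := exists_local_of_δ f F p (εW f E V (seq F).X₃ p x')
      ((εW_dW f E V F p x').symm.trans hx) hy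
    obtain ⟨W₂, h₂, w, hy₂, hw⟩ := exists_local_εW f E p (seq F).X₂ u hy₁
    let d := rW (seq F).X₃ (f.preimage_mono (h₂.trans h₁)) p x' - gW F (f ⁻¹ᵁ W₂) p w
    have hd : εW f E W₂ (seq F).X₃ p d = 0 := by
      rw [map_sub, ← res_εW f E p _ (h₂.trans h₁) x', εW_gW, hw, app_rs', hu, rs_rs, sub_self]
    obtain ⟨W₃, h₃, hy₃, h0⟩ := ih _ d hd hy₂
    refine ⟨W₃, h₃.trans (h₂.trans h₁), hy₃, ?_⟩
    have e0 : dW F (f ⁻¹ᵁ W₂) p d =
        rW F (f.preimage_mono (h₂.trans h₁)) (p + 1) (dW F (f ⁻¹ᵁ V) p x') := by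
      rw [map_sub, dW_gW, sub_zero, rW_dW]
    rw [← rW_rW (p + 1) F (f.preimage_mono (h₂.trans h₁)) (f.preimage_mono h₃), ← e0, rW_dW, h0,
      map_zero]

/-- The comparison is locally injective. -/
theorem exists_local_zero (p : ℕ) (F : X.Modules) {V : Y.Opens} (x : Coh.HHon X F (f ⁻¹ᵁ V) p)
    (hx : E.ε V F p x = 0) {y : Y} (hy : y ∈ V) :
    ∃ (W : Y.Opens) (h : W ≤ V), y ∈ W ∧ CohPull.resLE F (f.preimage_mono h) p x = 0 :=
  exists_local_zeroW f E p F x hx hy

variable {f} in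
/-- All higher direct images are acyclic over `V`. -/
def RAcy (f : X ⟶ Y) (V : Y.Opens) (F : X.Modules) : Prop := ∀ j, Acy V ((Coh.Rpush f j).obj F)

theorem acy_zero_seq (V : Y.Opens) (F : X.Modules) : Acy V ((Coh.Rpush f 0).obj (seq F).X₂) := by
  haveI := Groth.L17.BC.Delta.isIso_toRightDerivedZero f (seq F).X₂
  refine Acy.of_iso (asIso ((Scheme.Modules.pushforward f).toRightDerivedZero.app (seq F).X₂)) fun m => ?_
  exact Groth.L10.TopCoh.subsingleton_ext_of_flasque (X := Y.toTopCat) _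
    ⟨fun {U W} i => (Groth.L17.PushMV.isFlasque_of_injective (seq F).X₂).1 ((Opens.map f.base).op.map i)⟩ V m

/-- The kernel of the connecting map in degree zero. -/
theorem shortExact_zero (F : X.Modules) :
    (ShortComplex.mk ((Coh.Rpush f 0).map (seq F).f)
      (kernel.lift (Δ.δ (seq F) (shortExact_seq F) 0 1 rfl) ((Coh.Rpush f 0).map (seq F).g)
        (Δ.comp_δ (seq F) (shortExact_seq F) 0 1 rfl))
      (by rw [← cancel_mono (kernel.ι _), Category.assoc, kernel.lift_ι, zero_comp, ← Functor.map_comp,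
        (seq F).zero, Functor.map_zero])).ShortExact := by
  haveI hm : Mono ((Coh.Rpush f 0).map (seq F).f) := by
    haveI := Groth.L17.BC.Delta.isIso_toRightDerivedZero f (seq F).X₁
    haveI := Groth.L17.BC.Delta.isIso_toRightDerivedZero f (seq F).X₂
    haveI : Mono (seq F).f := (shortExact_seq F).mono_f
    haveI := (Scheme.Modules.pullbackPushforwardAdjunction f).isRightAdjoint
    haveI : Mono ((Scheme.Modules.pushforward f).map (seq F).f) := inferInstance
    have e := (Scheme.Modules.pushforward f).toRightDerivedZero.naturality (seq F).f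
    rw [← IsIso.inv_comp_eq] at e
    show Mono (((Scheme.Modules.pushforward f).rightDerived 0).map (seq F).f)
    rw [← e]
    infer_instance
  haveI he := ((Δ.exact₃ (seq F) (shortExact_seq F) 0 1 rfl).epi_kernelLift :)
  refine { exact := ?_ }
  let φ : ShortComplex.mk ((Coh.Rpush f 0).map (seq F).f)
      (kernel.lift (Δ.δ (seq F) (shortExact_seq F) 0 1 rfl) ((Coh.Rpush f 0).map (seq F).g)
        (Δ.comp_δ (seq F) (shortExact_seq F) 0 1 rfl))
      (by rw [← cancel_mono (kernel.ι _), Category.assoc, kernel.lift_ι, zero_comp, ← Functor.map_comp,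
        (seq F).zero, Functor.map_zero]) ⟶
      ShortComplex.mk ((Coh.Rpush f 0).map (seq F).f) ((Coh.Rpush f 0).map (seq F).g)
        (by rw [← Functor.map_comp, (seq F).zero, Functor.map_zero]) :=
    { τ₁ := 𝟙 _, τ₂ := 𝟙 _, τ₃ := kernel.ι _ }
  exact (ShortComplex.exact_iff_of_epi_of_isIso_of_mono φ).2 (Δ.exact₂ (seq F) (shortExact_seq F) 0)

theorem shortExact_one (F : X.Modules) :
    (ShortComplex.mk (kernel.ι (Δ.δ (seq F) (shortExact_seq F) 0 1 rfl))
      (Δ.δ (seq F) (shortExact_seq F) 0 1 rfl) (kernel.condition _)).ShortExact := by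
  haveI : Epi (Δ.δ (seq F) (shortExact_seq F) 0 1 rfl) := epi_δ f F 0
  exact { exact := ShortComplex.exact_kernel _ }

theorem isIso_δ (F : X.Modules) (p : ℕ) :
    IsIso (Δ.δ (seq F) (shortExact_seq F) (p + 1) (p + 1 + 1) rfl) := by
  haveI := epi_δ f (Δ := Δ) F (p + 1)
  haveI := mono_δ f (Δ := Δ) F p
  exact isIso_of_mono_of_epi _

include Δ in
theorem RAcy.quot {V : Y.Opens} {F : X.Modules} (h : RAcy f V F) : RAcy f V (seq F).X₃ := by
  intro j
  rcases j with _ | j
  · exact Acy.middle (shortExact_one f (Δ := Δ) F) (Acy.right (shortExact_zero f (Δ := Δ) F) (h 0)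
      (acy_zero_seq f V F)) (h 1)
  · haveI := isIso_δ f (Δ := Δ) F j
    exact Acy.of_iso (asIso (Δ.δ (seq F) (shortExact_seq F) (j + 1) (j + 1 + 1) rfl)).symm (h (j + 1 + 1))

include E in
theorem bijective_εW_zero (V : Y.Opens) (F : X.Modules) : Function.Bijective (εW f E V F 0) := by
  refine ⟨fun x x' hxx => ?_, fun t => ?_⟩
  · obtain ⟨s, rfl⟩ := sW_surjective F (f ⁻¹ᵁ V) x
    obtain ⟨s', rfl⟩ := sW_surjective F (f ⁻¹ᵁ V) x'
    rw [εW_sW, εW_sW] at hxx
    rw [Groth.L17.BC.Delta.injective_toRightDerivedZero f F V hxx]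
  · obtain ⟨s, rfl⟩ := Groth.L17.BC.Delta.exists_toRightDerivedZero f F V t
    exact ⟨_, εW_sW f E V F s⟩

theorem bijective_εW (V : Y.Opens) (p : ℕ) : ∀ F : X.Modules, RAcy f V F → Function.Bijective (εW f E V F p) := by
  induction p with
  | zero => exact fun F _ => bijective_εW_zero f E V F
  | succ p ih =>
    intro F h
    have hb := ih _ (h.quot f (Δ := Δ))
    refine ⟨(injective_iff_map_eq_zero _).2 fun x hx => ?_, fun t => ?_⟩
    · obtain ⟨y, rfl⟩ := exists_dW F (f ⁻¹ᵁ V) p x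
      have hy : (δseq f (Δ := Δ) F p).app V (εW f E V (seq F).X₃ p y) = 0 :=
        (εW_dW f E V F p y).symm.trans hx
      rcases p with _ | p
      · obtain ⟨s, hs⟩ := exists_of_app_eq_zero (shortExact_one f (Δ := Δ) F) V _ hy
        obtain ⟨u, hu⟩ := app_surjective_of_acy (shortExact_zero f (Δ := Δ) F) (h 0) s
        obtain ⟨w, hw⟩ := (bijective_εW_zero f E V (seq F).X₂).2 u
        have hg : ((Coh.Rpush f 0).map (seq F).g).app V u = εW f E V (seq F).X₃ 0 y := by
          refine Eq.trans ?_ hs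
          rw [← hu]
          exact (congr($(congrArg (fun k => Scheme.Modules.Hom.app k V) (kernel.lift_ι
            (Δ.δ (seq F) (shortExact_seq F) 0 1 rfl) ((Coh.Rpush f 0).map (seq F).g)
            (Δ.comp_δ (seq F) (shortExact_seq F) 0 1 rfl))) u)).symm
        have hyw : y = gW F (f ⁻¹ᵁ V) 0 w :=
          hb.1 (by rw [εW_gW, hw, hg])
        rw [hyw]
        exact dW_gW F (f ⁻¹ᵁ V) 0 w
      · haveI := isIso_δ f (Δ := Δ) F p
        have h0 : εW f E V (seq F).X₃ (p + 1) y = 0 :=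
          (ConcreteCategory.bijective_of_isIso
            (Scheme.Modules.Hom.app (Δ.δ (seq F) (shortExact_seq F) (p + 1) (p + 1 + 1) rfl) V)).1
            (hy.trans (map_zero _).symm)
        rw [hb.1 (h0.trans (map_zero _).symm), map_zero]
    · have ht : ∃ t', (δseq f (Δ := Δ) F p).app V t' = t := by
        rcases p with _ | p
        · exact app_surjective_of_acy (shortExact_one f (Δ := Δ) F)
            (Acy.right (shortExact_zero f (Δ := Δ) F) (h 0) (acy_zero_seq f V F)) t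
        · haveI := isIso_δ f (Δ := Δ) F p
          exact (ConcreteCategory.bijective_of_isIso
            (Scheme.Modules.Hom.app (Δ.δ (seq F) (shortExact_seq F) (p + 1) (p + 1 + 1) rfl) V)).2 t
      obtain ⟨t', rfl⟩ := ht
      obtain ⟨y, rfl⟩ := hb.2 t'
      exact ⟨_, εW_dW f E V F p y⟩

/-- Over an open with acyclic higher direct images the comparison is bijective. -/
theorem bijective_ε (V : Y.Opens) (p : ℕ) (F : X.Modules) (h : RAcy f V F) : Function.Bijective (E.ε V F p) :=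
  bijective_εW f E V p F h

end Groth.L16.SectCmp
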