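import Groth.Agent.L16.SectCmp.Basic
import Groth.Agent.L00.SubExtendMain
import Groth.Prelude.Def_CohBC2
import Groth.Agent.L17.PushQCoh
import Groth.Agent.L17.AffineVanishing

/-!
The edge map of a composite with an affine morphism.
-/

set_option autoImplicit false
set_option linter.style.haveILetI false
set_option backward.isDefEq.respectTransparency false

universe v v' u u'

open CategoryTheory CategoryTheory.Limits AlgebraicGeometry TopologicalSpace Opposite HomologicalComplex

noncomputable section

namespace Groth.L16.SectCmp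

section Comparison

variable {B : Type u} [Category.{v} B] [Abelian B] {C : Type u'} [Category.{v'} C] [Abelian C]
  (Ψ : B ⥤ C) [Ψ.Additive] [PreservesFiniteLimits Ψ]

/-- A class of objects on short exact sequences of which `Ψ` is exact. -/
structure ExactClass (P : B → Prop) : Prop where
  of_iso : ∀ {M N : B}, (M ≅ N) → P M → P N
  zero : ∀ {M : B}, IsZero M → P M
  right : ∀ {S : ShortComplex B}, S.ShortExact → P S.X₁ → P S.X₂ → P S.X₃
  middle : ∀ {S : ShortComplex B}, S.ShortExact → P S.X₁ → P S.X₃ → P S.X₂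
  epi : ∀ {S : ShortComplex B}, S.ShortExact → P S.X₁ → Epi (Ψ.map S.g)

variable {P : B → Prop} (hP : ExactClass Ψ P) (K : CochainComplex B ℕ)

theorem exact_iCycles_toCycles (m : ℕ) :
    (ShortComplex.mk (K.iCycles m) (K.toCycles m (m + 1))
      (by rw [← cancel_mono (K.iCycles (m + 1)), Category.assoc, toCycles_i, iCycles_d, zero_comp])).Exact :=
  ShortComplex.exact_of_f_is_kernel _ (KernelFork.IsLimit.ofι' (f := K.toCycles m (m + 1)) (K.iCycles m) _
    fun {A} k hk => ⟨K.liftCycles k (m + 1) (CochainComplex.next ℕ m) (by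
      have e := congrArg (· ≫ K.iCycles (m + 1)) hk
      simpa using e), K.liftCycles_i _ _ _ _⟩)

theorem shortExact_cycles_image (m : ℕ) :
    (ShortComplex.mk (K.iCycles m) (Abelian.factorThruImage (K.toCycles m (m + 1)))
      (by rw [← cancel_mono (Abelian.image.ι (K.toCycles m (m + 1))), Category.assoc, Abelian.image.fac, zero_comp,
        ← cancel_mono (K.iCycles (m + 1)), Category.assoc, toCycles_i, iCycles_d, zero_comp])).ShortExact := by
  refine { exact := ?_ }
  let φ : ShortComplex.mk (K.iCycles m) (Abelian.factorThruImage (K.toCycles m (m + 1)))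
      (by rw [← cancel_mono (Abelian.image.ι (K.toCycles m (m + 1))), Category.assoc, Abelian.image.fac, zero_comp,
        ← cancel_mono (K.iCycles (m + 1)), Category.assoc, toCycles_i, iCycles_d, zero_comp]) ⟶
      ShortComplex.mk (K.iCycles m) (K.toCycles m (m + 1))
        (by rw [← cancel_mono (K.iCycles (m + 1)), Category.assoc, toCycles_i, iCycles_d, zero_comp]) :=
    { τ₁ := 𝟙 _, τ₂ := 𝟙 _, τ₃ := Abelian.image.ι _ }
  exact (ShortComplex.exact_iff_of_epi_of_isIso_of_mono φ).2 (exact_iCycles_toCycles K m)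

theorem shortExact_image_homology (m : ℕ) :
    (ShortComplex.mk (Abelian.image.ι (K.toCycles m (m + 1))) (K.homologyπ (m + 1))
      (by rw [← cancel_epi (Abelian.factorThruImage (K.toCycles m (m + 1))), ← Category.assoc, Abelian.image.fac,
        toCycles_comp_homologyπ, comp_zero])).ShortExact := by
  refine { exact := ?_ }
  let φ : ShortComplex.mk (K.toCycles m (m + 1)) (K.homologyπ (m + 1)) (toCycles_comp_homologyπ _ _ _) ⟶
      ShortComplex.mk (Abelian.image.ι (K.toCycles m (m + 1))) (K.homologyπ (m + 1))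
        (by rw [← cancel_epi (Abelian.factorThruImage (K.toCycles m (m + 1))), ← Category.assoc, Abelian.image.fac,
          toCycles_comp_homologyπ, comp_zero]) :=
    { τ₁ := Abelian.factorThruImage _, τ₂ := 𝟙 _, τ₃ := 𝟙 _ }
  exact (ShortComplex.exact_iff_of_epi_of_isIso_of_mono φ).1 (ShortComplex.exact_of_g_is_cokernel _
    (K.homologyIsCokernel m (m + 1) (CochainComplex.prev_nat_succ m)))

omit [Ψ.Additive] [PreservesFiniteLimits Ψ] in
include hP in
theorem image_mem (m : ℕ) (hX : P (K.X m)) (hZ : P (K.cycles m)) :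
    P (Abelian.image (K.toCycles m (m + 1))) :=
  hP.right (shortExact_cycles_image K m) hZ hX

include hP in
theorem cycles_mem (hX : ∀ i, P (K.X i)) (hH : ∀ i, P (K.homology i)) : ∀ m, P (K.cycles m) := by
  intro m
  induction m with
  | zero => exact hP.of_iso K.isoHomologyπ₀.symm (hH 0)
  | succ m ih => exact hP.middle (shortExact_image_homology K m) (image_mem Ψ hP K m (hX m) ih) (hH (m + 1))

include hP in
theorem isIso_homologyComparison_of_class (hX : ∀ i, P (K.X i)) (hH : ∀ i, P (K.homology i)) (n : ℕ) :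
    IsIso (RDer.homologyComparison Ψ K n) := by
  let c := ComplexShape.up ℕ
  let K' := (Ψ.mapHomologicalComplex c).obj K
  haveI : IsIso (RDer.cyclesComparison Ψ K n) :=
    ((K'.cyclesIsKernel n (c.next n) rfl).conePointUniqueUpToIso
      (KernelFork.mapIsLimit _ (K.cyclesIsKernel n (c.next n) rfl) Ψ)).isIso_hom
  obtain ⟨i, hi⟩ : ∃ i, i = c.prev n := ⟨_, rfl⟩
  have hz : Ψ.map (K.toCycles i n) ≫ Ψ.map (K.homologyπ n) = 0 := by
    rw [← Ψ.map_comp, toCycles_comp_homologyπ, Ψ.map_zero]
  have key : (ShortComplex.mk (Ψ.map (K.toCycles i n)) (Ψ.map (K.homologyπ n)) hz).Exact ∧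
      Epi (Ψ.map (K.homologyπ n)) := by
    cases n with
    | zero =>
      haveI : IsIso (K.homologyπ 0) := K.isoHomologyπ₀.isIso_hom
      refine ⟨(ShortComplex.exact_iff_mono _ ?_).2 inferInstance, inferInstance⟩
      have h0 : K.toCycles i 0 = 0 := by
        rw [← cancel_mono (K.iCycles 0), toCycles_i, zero_comp]
        exact K.shape _ _ (by simp)
      simp [h0]
    | succ m =>
      obtain rfl : i = m := hi.trans (CochainComplex.prev_nat_succ m)
      have hZ := cycles_mem Ψ hP K hX hH
      have hI := image_mem Ψ hP K i (hX i) (hZ i)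
      have hT := shortExact_image_homology K i
      haveI := hP.epi hT hI
      haveI hf : Epi (Ψ.map (Abelian.factorThruImage (K.toCycles i (i + 1)))) :=
        hP.epi (shortExact_cycles_image K i) (hZ i)
      haveI := hT.mono_f
      have h1 := hT.exact.map_of_mono_of_preservesKernel Ψ inferInstance inferInstance
      refine ⟨?_, inferInstance⟩
      let φ : ShortComplex.mk (Ψ.map (K.toCycles i (i + 1))) (Ψ.map (K.homologyπ (i + 1))) hz ⟶
          (ShortComplex.mk (Abelian.image.ι (K.toCycles i (i + 1))) (K.homologyπ (i + 1))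
            (by rw [← cancel_epi (Abelian.factorThruImage (K.toCycles i (i + 1))), ← Category.assoc, Abelian.image.fac,
              toCycles_comp_homologyπ, comp_zero])).map Ψ :=
        { τ₁ := Ψ.map (Abelian.factorThruImage _), τ₂ := 𝟙 _, τ₃ := 𝟙 _
          comm₁₂ := by simp [← Ψ.map_comp]
          comm₂₃ := by simp }
      haveI : Epi φ.τ₁ := hf
      haveI : IsIso φ.τ₂ := inferInstanceAs (IsIso (𝟙 _))
      haveI : Mono φ.τ₃ := inferInstanceAs (Mono (𝟙 _))
      exact (ShortComplex.exact_iff_of_epi_of_isIso_of_mono φ).2 h1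
  haveI := key.2
  have hc : IsColimit (CokernelCofork.ofπ (f := K'.toCycles i n)
      (RDer.cyclesComparison Ψ K n ≫ Ψ.map (K.homologyπ n)) (by
        subst hi; rw [RDer.toCycles_cyclesComparison_assoc, hz])) := by
    refine CokernelCofork.IsColimit.ofπ' _ _ fun {A} g hg => ?_
    refine ⟨key.1.desc (inv (RDer.cyclesComparison Ψ K n) ≫ g) ?_, ?_⟩
    · subst hi
      show Ψ.map (K.toCycles (c.prev n) n) ≫ inv (RDer.cyclesComparison Ψ K n) ≫ g = 0
      rw [← RDer.toCycles_cyclesComparison, Category.assoc, IsIso.hom_inv_id_assoc, hg]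
    · rw [Category.assoc]
      erw [key.1.g_desc]
      rw [IsIso.hom_inv_id_assoc]
  subst hi
  exact ((K'.homologyIsCokernel (c.prev n) n rfl).coconePointUniqueUpToIso hc).isIso_hom

end Comparison

section Affine

variable {X Y Z : Scheme.{u}}

open Groth.L17 (toAbShF)

theorem Acy.of_isZero {N : Y.Modules} (h : IsZero N) (V : Y.Opens) : Acy V N := fun m => by
  have hz : IsZero ((toAbShF Y).obj N) := (toAbShF Y).map_isZero h
  exact subsingleton_of_forall_eq 0 fun z => by
    rw [← Abelian.Ext.comp_mk₀_id z, hz.eq_of_src (𝟙 _) 0, Abelian.Ext.mk₀_zero, Abelian.Ext.comp_zero]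

/-- Direct image along a morphism is exact on modules acyclic over preimages of affine opens. -/
theorem exactClass_push (g : Y ⟶ Z) :
    ExactClass (Scheme.Modules.pushforward g)
      (fun N => ∀ W : Z.Opens, IsAffineOpen W → Acy (g ⁻¹ᵁ W) N) where
  of_iso e h W hW := Acy.of_iso e (h W hW)
  zero h W _ := Acy.of_isZero h _
  right hS h₁ h₂ W hW := Acy.right hS (h₁ W hW) (h₂ W hW)
  middle hS h₁ h₃ W hW := Acy.middle hS (h₁ W hW) (h₃ W hW)
  epi {S} hS h₁ := Groth.L00.SubExtend.epi_of_affine _ fun O hO t => app_surjective_of_acy hS (h₁ O hO) t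

theorem acy_push_injective (f : X ⟶ Y) (I : X.Modules) [Injective I] (V : Y.Opens) :
    Acy V ((Scheme.Modules.pushforward f).obj I) := fun m =>
  Groth.L10.TopCoh.subsingleton_ext_of_flasque (X := Y.toTopCat) _
    ⟨fun {U W} i => (Groth.L17.PushMV.isFlasque_of_injective I).1 ((Opens.map f.base).op.map i)⟩ V m

theorem isIso_lerayEdgeOut (f : X ⟶ Y) (g : Y ⟶ Z) [QuasiCompact f] [QuasiSeparated f] [IsAffineHom g]
    [HasInjectiveResolutions X.Modules] (M : X.Modules) [Coh.IsQCoh M] (p : ℕ) :
    IsIso (CohBC.lerayEdgeOut f g p M) := by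
  haveI : IsIso (RDer.homologyComparison (Scheme.Modules.pushforward g)
      (((Scheme.Modules.pushforward f).mapHomologicalComplex _).obj (injectiveResolution M).cocomplex) p) := by
    refine isIso_homologyComparison_of_class _ (exactClass_push g) _ (fun i W _ => ?_) (fun i W hW => ?_) p
    · haveI := (injectiveResolution M).injective i
      exact acy_push_injective f _ _
    · refine Acy.of_iso ((injectiveResolution M).isoRightDerivedObj (Scheme.Modules.pushforward f) i) fun m => ?_
      haveI := Groth.L17.PushQCoh.isQCoh_Rpush f M i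
      exact subsingleton_of_forall_eq 0 (Groth.L17.hu_affine_eq_zero ((Coh.Rpush f i).obj M) (hW.preimage g) m)
  haveI : IsIso (RDer.edgeOut (Scheme.Modules.pushforward f) (Scheme.Modules.pushforward g) p M) :=
    IsIso.comp_isIso' inferInstance (IsIso.comp_isIso' inferInstance inferInstance)
  exact IsIso.comp_isIso' inferInstance inferInstance

end Affine

end Groth.L16.SectCmp
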